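import Groth.Prelude.Def_W4stkfunctorsequivSib
import Mathlib

/-!
# Bounded derived category: singles, amplitude, and compatibility of transformations
-/

set_option linter.style.haveILetI false

universe w v u v' u'

open CategoryTheory CategoryTheory.Limits CategoryTheory.Pretriangulated DerivedCategory ZeroObject

namespace Groth.Agent.PerfGen7.Sibling

section Comm

variable {C : Type u} [Category.{v} C] [HasShift C ℤ] {D : Type u'} [Category.{v'} D] [HasShift D ℤ]
  (F F' : C ⥤ D) [F.CommShift ℤ] [F'.CommShift ℤ]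

/-- The square attached to a morphism and two isomorphisms commutes. -/
def Nat' {X Y : C} (θ : F.obj X ≅ F'.obj X) (θ' : F.obj Y ≅ F'.obj Y) (f : X ⟶ Y) : Prop :=
  F.map f ≫ θ'.hom = θ.hom ≫ F'.map f

variable {F F'}

lemma Nat'.comp {X Y Z : C} {θ : F.obj X ≅ F'.obj X} {θ' : F.obj Y ≅ F'.obj Y}
    {θ'' : F.obj Z ≅ F'.obj Z} {f : X ⟶ Y} {g : Y ⟶ Z} (hf : Nat' F F' θ θ' f)
    (hg : Nat' F F' θ' θ'' g) : Nat' F F' θ θ'' (f ≫ g) := by
  unfold Nat' at *
  rw [F.map_comp, F'.map_comp, Category.assoc, hg, reassoc_of% hf]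

lemma Nat'.inv {X Y : C} {θ : F.obj X ≅ F'.obj X} {θ' : F.obj Y ≅ F'.obj Y}
    {e : X ≅ Y} (h : Nat' F F' θ θ' e.hom) : Nat' F F' θ' θ e.inv := by
  unfold Nat' at *
  rw [← cancel_epi (F.map e.hom), reassoc_of% h]
  simp [← Functor.map_comp_assoc, ← Functor.map_comp]

lemma nat'_id {X : C} (θ : F.obj X ≅ F'.obj X) : Nat' F F' θ θ (𝟙 X) := by
  simp [Nat']

/-- The isomorphism induced on a shifted object. -/
def shIso {X : C} (θ : F.obj X ≅ F'.obj X) (m : ℤ) : F.obj (X⟦m⟧) ≅ F'.obj (X⟦m⟧) :=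
  (F.commShiftIso m).app X ≪≫ (shiftFunctor D m).mapIso θ ≪≫ ((F'.commShiftIso m).app X).symm

lemma Nat'.shift {X Y : C} {θ : F.obj X ≅ F'.obj X} {θ' : F.obj Y ≅ F'.obj Y} {f : X ⟶ Y}
    (h : Nat' F F' θ θ' f) (m : ℤ) : Nat' F F' (shIso θ m) (shIso θ' m) (f⟦m⟧') := by
  unfold Nat' shIso at *
  simp only [Iso.trans_hom, Iso.app_hom, Functor.mapIso_hom, Iso.symm_hom, Iso.app_inv,
    Category.assoc]
  erw [(F.commShiftIso m).hom.naturality_assoc, ← (F'.commShiftIso m).inv.naturality f]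
  simp only [Functor.comp_map]
  rw [← Functor.map_comp_assoc, ← Functor.map_comp_assoc, h]

lemma nat'_shiftAdd {X : C} (θ : F.obj X ≅ F'.obj X) {a b c : ℤ} (h : a + b = c) :
    Nat' F F' (shIso θ c) (shIso (shIso θ a) b) ((shiftFunctorAdd' C a b c h).hom.app X) := by
  unfold Nat' shIso
  rw [Functor.commShiftIso_add' F h, Functor.commShiftIso_add' F' h]
  simp only [Iso.trans_hom, Iso.app_hom, Functor.mapIso_hom, Iso.symm_hom, Iso.app_inv,
    Category.assoc, Functor.CommShift.isoAdd'_hom_app, Functor.CommShift.isoAdd'_inv_app,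
    Functor.map_comp]
  congr 2
  have := (shiftFunctorAdd' D a b c h).inv.naturality θ.hom
  simp only [Functor.comp_map] at this
  rw [← reassoc_of% this]
  simp [← Functor.map_comp]

lemma nat'_shiftZero {X : C} (θ : F.obj X ≅ F'.obj X) :
    Nat' F F' (shIso θ 0) θ ((shiftFunctorZero C ℤ).hom.app X) := by
  unfold Nat' shIso
  rw [Functor.commShiftIso_zero, Functor.commShiftIso_zero]
  have := (shiftFunctorZero D ℤ).hom.naturality θ.hom
  simp only [Functor.id_map] at this
  simp [Functor.CommShift.isoZero_hom_app, Functor.CommShift.isoZero_inv_app, ← this]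

end Comm

section Bounded

variable {A : Type u} [Category.{v} A] [Abelian A] [HasDerivedCategory.{w} A]

local notation "tS" => (DerivedCategory.TStructure.t (C := A))

/-- `H^i = 0` for `i < n`. -/
def GE (K : Bounded A) (n : ℤ) : Prop := (K.obj).IsGE n

/-- `H^i = 0` for `i > n`. -/
def LE (K : Bounded A) (n : ℤ) : Prop := (K.obj).IsLE n

lemma exists_ge (K : Bounded A) : ∃ a, GE K a := K.property.1
lemma exists_le (K : Bounded A) : ∃ b, LE K b := K.property.2

lemma GE.of_le {K : Bounded A} {n : ℤ} (h : GE K n) {m : ℤ} (hm : m ≤ n) : GE K m :=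
  have : K.obj.IsGE n := h
  show K.obj.IsGE m from (tS).isGE_of_ge _ m n hm

lemma LE.of_le {K : Bounded A} {n : ℤ} (h : LE K n) {m : ℤ} (hm : n ≤ m) : LE K m :=
  have : K.obj.IsLE n := h
  show K.obj.IsLE m from (tS).isLE_of_le _ n m hm

lemma GE.of_iso {K L : Bounded A} {n : ℤ} (h : GE K n) (e : K ≅ L) : GE L n := by
  have : (tS).IsGE (Bounded.ι.obj K) n := h
  exact (tS).isGE_of_iso (Bounded.ι.mapIso e) n

lemma LE.of_iso {K L : Bounded A} {n : ℤ} (h : LE K n) (e : K ≅ L) : LE L n := by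
  have : (tS).IsLE (Bounded.ι.obj K) n := h
  exact (tS).isLE_of_iso (Bounded.ι.mapIso e) n

lemma GE.shift {K : Bounded A} {n : ℤ} (h : GE K n) (a : ℤ) {n' : ℤ} (hn : a + n' = n) :
    GE (K⟦a⟧) n' := by
  unfold GE at *
  have : (tS).IsGE ((Bounded.ι ⋙ shiftFunctor (DerivedCategory A) a).obj K) n' := (tS).isGE_shift K.obj n a n' hn
  exact (tS).isGE_of_iso ((Bounded.ι.commShiftIso a).app K).symm n'

lemma LE.shift {K : Bounded A} {n : ℤ} (h : LE K n) (a : ℤ) {n' : ℤ} (hn : a + n' = n) :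
    LE (K⟦a⟧) n' := by
  unfold LE at *
  have : (tS).IsLE ((Bounded.ι ⋙ shiftFunctor (DerivedCategory A) a).obj K) n' := (tS).isLE_shift K.obj n a n' hn
  exact (tS).isLE_of_iso ((Bounded.ι.commShiftIso a).app K).symm n'

lemma hom_eq_zero {K L : Bounded A} {n n' : ℤ} (hK : LE K n) (hL : GE L n') (h : n < n')
    (f : K ⟶ L) : f = 0 := by
  apply Bounded.ι.map_injective
  rw [Functor.map_zero]
  exact (tS).zero_of_isLE_of_isGE _ n n' h hK hL

lemma isZero_of {K : Bounded A} {a b : ℤ} (hb : LE K b) (ha : GE K a) (h : b < a) : IsZero K :=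
  (IsZero.iff_id_eq_zero K).2 (hom_eq_zero hb ha h _)

lemma single_ge (X : A) : GE ((DEquiv.singleB A).obj X) 0 :=
  show ((DerivedCategory.singleFunctor A 0).obj X).IsGE 0 from inferInstance

lemma single_le (X : A) : LE ((DEquiv.singleB A).obj X) 0 :=
  show ((DerivedCategory.singleFunctor A 0).obj X).IsLE 0 from inferInstance

/-- An object placed in degree `-m`. -/
noncomputable abbrev sh (m : ℤ) (X : A) : Bounded A := ((DEquiv.singleB A).obj X)⟦m⟧

lemma sh_ge (m : ℤ) (X : A) {n : ℤ} (h : m + n = 0) : GE (sh m X) n := (single_ge X).shift m h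

lemma sh_le (m : ℤ) (X : A) {n : ℤ} (h : m + n = 0) : LE (sh m X) n := (single_le X).shift m h

lemma exists_iso_sh {K : Bounded A} {n : ℤ} (hb : LE K n) (ha : GE K n) :
    ∃ X : A, Nonempty (K ≅ sh (-n) X) := by
  have h0 : GE (K⟦n⟧) 0 := ha.shift n (by omega)
  have h1 : LE (K⟦n⟧) 0 := hb.shift n (by omega)
  have : (K⟦n⟧).obj.IsGE 0 := h0
  have : (K⟦n⟧).obj.IsLE 0 := h1
  obtain ⟨X, ⟨e⟩⟩ := exists_iso_singleFunctor_obj_of_isGE_of_isLE (K⟦n⟧).obj 0
  exact ⟨X, ⟨(shiftShiftNeg K n).symm ≪≫ (shiftFunctor (Bounded A) (-n)).mapIso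
    (Bounded.ι.preimageIso (X := K⟦n⟧) (Y := (DEquiv.singleB A).obj X) e)⟩⟩

lemma sh_map_surjective (m : ℤ) {X Y : A} (f : sh m X ⟶ sh m Y) :
    ∃ a : X ⟶ Y, f = ((DEquiv.singleB A).map a)⟦m⟧' := by
  obtain ⟨g, rfl⟩ := (shiftFunctor (Bounded A) m).map_surjective f
  have : (DEquiv.singleB A).Full :=
    inferInstanceAs (ObjectProperty.lift _ (DerivedCategory.singleFunctor A 0) _).Full
  obtain ⟨a, rfl⟩ := (DEquiv.singleB A).map_surjective g
  exact ⟨a, rfl⟩

instance : (DEquiv.singleB A).Faithful :=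
  inferInstanceAs (ObjectProperty.lift _ (DerivedCategory.singleFunctor A 0) _).Faithful

/-- An object of `D^b` receives, in its top degree, a morphism from an object of `A` which is an
epimorphism on the top cohomology and kills a given morphism to a lower object. -/
lemma exists_cover {K Z : Bounded A} {b c : ℤ} (hb : LE K b) (hc : LE Z c) (hcb : c < b)
    (f : K ⟶ Z) :
    ∃ (E : A) (g : sh (-b) E ⟶ K),
      Epi ((DerivedCategory.homologyFunctor A b).map g.hom) ∧ g ≫ f = 0 := by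
  have : (K.obj).IsLE b := hb
  have : (Z.obj).IsLE c := hc
  obtain ⟨W, w, δ, hW⟩ := Pretriangulated.distinguished_cocone_triangle₁ (Bounded.ι.map f)
  have hzero : ∀ n, b ≤ n → IsZero ((homologyFunctor A n).obj Z.obj) :=
    fun n hn => Z.obj.isZero_of_isLE c n (by omega)
  have hWle : W.IsLE b := by
    rw [DerivedCategory.isLE_iff]
    intro i hi
    obtain ⟨j, rfl⟩ : ∃ j, i = j + 1 := ⟨i - 1, by omega⟩
    refine (DerivedCategory.HomologySequence.exact₁ _ hW j (j + 1) rfl).isZero_of_both_zeros ?_ ?_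
    · exact (hzero j (by omega)).eq_of_src _ _
    · exact (K.obj.isZero_of_isLE b (j + 1) hi).eq_of_tgt _ _
  have hepi : Epi ((homologyFunctor A b).map w) :=
    (DerivedCategory.HomologySequence.exact₂ _ hW b).epi_f ((hzero b le_rfl).eq_of_tgt _ _)
  obtain ⟨L, hL, ⟨e⟩⟩ := DerivedCategory.exists_iso_Q_obj_of_isLE W b
  have hd : L.d b (b + 1) = 0 :=
    (L.isZero_of_isStrictlyLE b (b + 1) (by omega)).eq_of_tgt _ _
  let φ : (CochainComplex.singleFunctor A b).obj (L.X b) ⟶ L :=
    HomologicalComplex.mkHomFromSingle (𝟙 _) (fun j hj => by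
      obtain rfl : b + 1 = j := hj
      rw [hd, Limits.comp_zero])
  let g₀ : (DerivedCategory.singleFunctor A b).obj (L.X b) ⟶ W :=
    ((DerivedCategory.singleFunctorIsoCompQ A b).app (L.X b)).hom ≫ DerivedCategory.Q.map φ ≫ e.inv
  let ι₀ : sh (-b) (L.X b) ≅
      (⟨(DerivedCategory.singleFunctor A b).obj (L.X b), ⟨⟨b, inferInstance⟩, ⟨b, inferInstance⟩⟩⟩ :
        Bounded A) := Bounded.ι.preimageIso
    ((Bounded.ι.commShiftIso (-b)).app _ ≪≫
      ((DerivedCategory.singleFunctors A).shiftIso (-b) b 0 (by omega)).app (L.X b))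
  refine ⟨L.X b, ι₀.hom ≫ ObjectProperty.homMk (g₀ ≫ w), ?_, ?_⟩
  · have h1 : Epi ((homologyFunctor A b).map (DerivedCategory.Q.map φ)) := by
      haveI : Epi (HomologicalComplex.homologyMap φ b) := by
        let S := (CochainComplex.singleFunctor A b).obj (L.X b)
        haveI : Epi (φ.f b) := by
          simp only [φ, HomologicalComplex.mkHomFromSingle_f]
          exact epi_comp' inferInstance inferInstance
        haveI : IsIso (L.iCycles b) := L.isIso_iCycles b (b + 1) (by simp) hd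
        have hS : S.d b (b + 1) = 0 :=
          (HomologicalComplex.isZero_single_obj_X (ComplexShape.up ℤ) b (L.X b) (b + 1) (by omega)).eq_of_tgt _ _
        haveI : IsIso (S.iCycles b) := S.isIso_iCycles b (b + 1) (by simp) hS
        haveI : Epi (HomologicalComplex.cyclesMap φ b) := by
          have h := HomologicalComplex.cyclesMap_i φ b
          rw [← IsIso.eq_comp_inv] at h
          rw [h]; infer_instance
        exact epi_of_epi_fac (HomologicalComplex.homologyπ_naturality φ b)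
      exact ((MorphismProperty.epimorphisms A).arrow_mk_iso_iff
        (((Functor.mapArrowFunctor _ _).mapIso (DerivedCategory.homologyFunctorFactors A b)).app (Arrow.mk φ))).2 this
    have : IsIso ι₀.hom.hom := inferInstanceAs (IsIso (Bounded.ι.map ι₀.hom))
    simp only [ObjectProperty.FullSubcategory.comp_hom, Functor.map_comp]
    have : Epi ((homologyFunctor A b).map
        ((ObjectProperty.homMk (g₀ ≫ w) : (⟨(DerivedCategory.singleFunctor A b).obj (L.X b),
        ⟨⟨b, inferInstance⟩, ⟨b, inferInstance⟩⟩⟩ : Bounded A) ⟶ K)).hom) := by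
      change Epi ((homologyFunctor A b).map (g₀ ≫ w))
      simp only [g₀, Functor.map_comp, Category.assoc]
      infer_instance
    exact epi_comp' inferInstance this
  · rw [Category.assoc]
    have : (ObjectProperty.homMk (g₀ ≫ w) : (⟨(DerivedCategory.singleFunctor A b).obj (L.X b),
        ⟨⟨b, inferInstance⟩, ⟨b, inferInstance⟩⟩⟩ : Bounded A) ⟶ K) ≫ f = 0 := by
      apply Bounded.ι.map_injective
      have h := comp_distTriang_mor_zero₁₂ _ hW
      simp only [Triangle.mk_mor₁, Triangle.mk_mor₂] at h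
      simp only [Functor.map_comp, Functor.map_zero]
      change (g₀ ≫ w) ≫ Bounded.ι.map f = 0
      exact (Category.assoc _ _ _).trans ((congrArg (g₀ ≫ ·) h).trans comp_zero)
    rw [this, comp_zero]

/-- The cocone of a top degree cover. -/
lemma exists_triangle {K : Bounded A} {a b : ℤ} (ha : GE K a) (hb : LE K b) (hab : a < b)
    {E : A} (g : sh (-b) E ⟶ K) (hg : Epi ((DerivedCategory.homologyFunctor A b).map g.hom)) :
    ∃ (L : Bounded A) (u : L ⟶ sh (-b) E) (p : K ⟶ L⟦(1 : ℤ)⟧),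
      Triangle.mk u g p ∈ distTriang _ ∧ GE L (a + 1) ∧ LE L b ∧
      GE (L⟦(1 : ℤ)⟧) a ∧ LE (L⟦(1 : ℤ)⟧) (b - 1) := by
  obtain ⟨L, u, p, hT⟩ := Pretriangulated.distinguished_cocone_triangle₁ g
  have hT' := Bounded.ι.map_distinguished _ hT
  have hE₁ : (sh (-b) E).obj.IsGE b := sh_ge (-b) E (by omega)
  have hE₂ : (sh (-b) E).obj.IsLE b := sh_le (-b) E (by omega)
  have hK₁ : K.obj.IsGE a := ha
  have hK₂ : K.obj.IsLE b := hb
  have hge : GE L (a + 1) := by
    unfold GE
    rw [DerivedCategory.isGE_iff]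
    intro i hi
    obtain ⟨j, rfl⟩ : ∃ j, i = j + 1 := ⟨i - 1, by omega⟩
    refine (HomologySequence.exact₁ _ hT' j (j + 1) rfl).isZero_of_both_zeros ?_ ?_
    · exact (K.obj.isZero_of_isGE a j (by omega)).eq_of_src _ _
    · exact ((sh (-b) E).obj.isZero_of_isGE b (j + 1) (by omega)).eq_of_tgt _ _
  have hle : LE L b := by
    unfold LE
    rw [DerivedCategory.isLE_iff]
    intro i hi
    obtain ⟨j, rfl⟩ : ∃ j, i = j + 1 := ⟨i - 1, by omega⟩
    refine (HomologySequence.exact₁ _ hT' j (j + 1) rfl).isZero_of_both_zeros ?_ ?_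
    · rcases lt_or_eq_of_le (show b ≤ j by omega) with h | rfl
      · exact (K.obj.isZero_of_isLE b j h).eq_of_src _ _
      · refine (cancel_epi ((homologyFunctor A b).map g.hom)).1 ?_
        exact (HomologySequence.comp_δ (Bounded.ι.mapTriangle.obj _) hT' b (b + 1) rfl).trans comp_zero.symm
    · exact ((sh (-b) E).obj.isZero_of_isLE b (j + 1) (by omega)).eq_of_tgt _ _
  exact ⟨L, u, p, hT, hge, hle, hge.shift 1 (by omega), hle.shift 1 (by omega)⟩

/-- Induction on the amplitude, keeping track of the upper bound. -/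
lemma induction_bound {P : Bounded A → ℤ → Prop}
    (hiso : ∀ (K L : Bounded A) (b : ℤ), (K ≅ L) → P K b → P L b)
    (hzero : ∀ (K : Bounded A) (b : ℤ), IsZero K → P K b)
    (hsh : ∀ (b : ℤ) (X : A), P (sh (-b) X) b)
    (hstep : ∀ (b : ℤ) (E : A) (K L : Bounded A) (u : L ⟶ sh (-b) E) (g : sh (-b) E ⟶ K)
      (p : K ⟶ L⟦(1 : ℤ)⟧), Triangle.mk u g p ∈ distTriang _ → LE K b → LE L b →
      LE (L⟦(1 : ℤ)⟧) (b - 1) → P L b → P (L⟦(1 : ℤ)⟧) (b - 1) → P K b)
    (K : Bounded A) (b : ℤ) (hb : LE K b) : P K b := by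
  suffices H : ∀ (n : ℕ) (K : Bounded A) (a b : ℤ), GE K a → LE K b → b - a ≤ n → P K b by
    obtain ⟨a, ha⟩ := exists_ge K
    exact H (b - a).toNat K a b ha hb (Int.self_le_toNat _)
  intro n
  induction n with
  | zero =>
    intro K a b ha hb h
    rcases lt_or_eq_of_le (show b ≤ a by omega) with h' | rfl
    · exact hzero K b (isZero_of hb ha h')
    · obtain ⟨X, ⟨e⟩⟩ := exists_iso_sh hb ha
      exact hiso _ _ _ e.symm (hsh _ _)
  | succ n ih =>
    intro K a b ha hb h
    by_cases hab : a < b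
    · have hz : LE (0 : Bounded A) (b - 1) :=
        (tS).isLE_of_isZero (Bounded.ι.map_isZero (isZero_zero _)) _
      obtain ⟨E, g, hg, -⟩ := exists_cover hb hz (by omega) (0 : K ⟶ 0)
      obtain ⟨L, u, p, hT, h₁, h₂, h₃, h₄⟩ := exists_triangle ha hb hab g hg
      exact hstep b E K L u g p hT hb h₂ h₄ (ih L (a + 1) b h₁ h₂ (by omega))
        (ih _ a (b - 1) h₃ h₄ (by omega))
    · exact ih K a b ha hb (by omega)

end Bounded

end Groth.Agent.PerfGen7.Sibling
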