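import Groth.Agent.PerfGen7.Sibling.Basic

/-!
# Two exact functors agreeing on objects in degree zero
-/

universe w v u v' u'

open CategoryTheory CategoryTheory.Limits CategoryTheory.Pretriangulated DerivedCategory

namespace Groth.Agent.PerfGen7.Sibling

variable {A : Type u} [Category.{v} A] [Abelian A] [HasDerivedCategory.{w} A]
  {D : Type u'} [Category.{v'} D] [Preadditive D] [HasZeroObject D] [HasShift D ℤ]
  [∀ n : ℤ, (shiftFunctor D n).Additive] [Pretriangulated D]
  {F F' : Bounded A ⥤ D} [F.CommShift ℤ] [F.IsTriangulated] [F'.CommShift ℤ] [F'.IsTriangulated]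
  (η : DEquiv.singleB A ⋙ F ≅ DEquiv.singleB A ⋙ F')

/-- The isomorphism on an object in degree zero. -/
noncomputable abbrev ev (X : A) :
    F.obj ((DEquiv.singleB A).obj X) ≅ F'.obj ((DEquiv.singleB A).obj X) := η.app X

lemma nat'_single {X Y : A} (a : X ⟶ Y) :
    Nat' F F' (ev η X) (ev η Y) ((DEquiv.singleB A).map a) := η.hom.naturality a

/-- The isomorphism on an object in degree `-m`. -/
noncomputable abbrev τ (m : ℤ) (X : A) : F.obj (sh m X) ≅ F'.obj (sh m X) :=
  shIso (ev η X) m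

lemma nat'_sh_map (m : ℤ) {X Y : A} (a : X ⟶ Y) :
    Nat' F F' (τ η m X) (τ η m Y) (((DEquiv.singleB A).map a)⟦m⟧') :=
  (nat'_single η a).shift m

lemma nat'_of_le {X Y : A} {m m' : ℤ} (h : m' ≤ m) (f : sh m X ⟶ sh m' Y) :
    Nat' F F' (τ η m X) (τ η m' Y) f := by
  rcases lt_or_eq_of_le h with h | rfl
  · rw [hom_eq_zero (sh_le m X (n := -m) (by omega)) (sh_ge m' Y (n := -m') (by omega)) (by omega) f]
    simp [Nat']
  · obtain ⟨a, rfl⟩ := sh_map_surjective m' f
    exact nat'_sh_map η m' a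

variable (F) in
/-- No negative homomorphisms between images of objects in degree zero. -/
def NegVanish : Prop :=
  ∀ (X Y : A) (q : ℤ), q < 0 →
      ∀ f : F.obj ((DEquiv.singleB A).obj X) ⟶ (shiftFunctor D q).obj (F.obj ((DEquiv.singleB A).obj Y)),
        f = 0

variable (hvan : NegVanish F)

include η hvan in
lemma hom_sh_eq_zero {X Y : A} {m m' : ℤ} (h : m' < m)
    (f : F.obj (sh m X) ⟶ F'.obj (sh m' Y)) : f = 0 := by
  let e := (F.commShiftIso m').app ((DEquiv.singleB A).obj Y) ≪≫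
    (shiftFunctorAdd' D (m' - m) m m' (by omega)).app (F.obj ((DEquiv.singleB A).obj Y))
  obtain ⟨g, hg⟩ := (shiftFunctor D m).map_surjective
    ((F.commShiftIso m).inv.app _ ≫ f ≫ (τ η m' Y).inv ≫ e.hom)
  rw [hvan X Y (m' - m) (by omega) g, Functor.map_zero, eq_comm, Preadditive.IsIso.comp_left_eq_zero,
    ← Category.assoc, Preadditive.IsIso.comp_right_eq_zero,
    Preadditive.IsIso.comp_right_eq_zero] at hg
  exact hg

include η hvan in
lemma hom_to_sh_eq_zero (K : Bounded A) (b : ℤ) (hb : LE K b) {Y : A} {m : ℤ} (h : b < -m)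
    (f : F.obj K ⟶ F'.obj (sh m Y)) : f = 0 := by
  revert h f
  refine induction_bound (P := fun K b => b < -m → ∀ f : F.obj K ⟶ F'.obj (sh m Y), f = 0)
    ?_ ?_ ?_ ?_ K b hb
  · intro K L b e hK h f
    rw [← cancel_epi (F.map e.hom), hK h (F.map e.hom ≫ f), comp_zero]
  · intro K b hK _ f
    exact (F.map_isZero hK).eq_of_src _ _
  · intro b X h f
    exact hom_sh_eq_zero η hvan (by omega) f
  · intro b E K L u g p hT _ _ _ _ ihM h f
    obtain ⟨χ, hχ⟩ := Triangle.yoneda_exact₃ _ (F.map_distinguished _ hT) f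
      (hom_sh_eq_zero η hvan (by omega) _)
    obtain rfl : χ = 0 := (Preadditive.IsIso.comp_left_eq_zero
      ((F.commShiftIso (1 : ℤ)).hom.app L) χ).1 (ihM (by omega) _)
    exact hχ.trans comp_zero

include η hvan in
/-- The isomorphisms, compatible with all maps to objects concentrated above the amplitude. -/
lemma exists_iso (K : Bounded A) (b : ℤ) (hb : LE K b) :
    ∃ θ : F.obj K ≅ F'.obj K, ∀ (Y : A) (m : ℤ), b ≤ -m →
      ∀ ξ : K ⟶ sh m Y, Nat' F F' θ (τ η m Y) ξ := by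
  refine induction_bound (P := fun K b => ∃ θ : F.obj K ≅ F'.obj K, ∀ (Y : A) (m : ℤ), b ≤ -m →
    ∀ ξ : K ⟶ sh m Y, Nat' F F' θ (τ η m Y) ξ) ?_ ?_ ?_ ?_ K b hb
  · rintro K L b e ⟨θ, hθ⟩
    refine ⟨(F.mapIso e).symm ≪≫ θ ≪≫ F'.mapIso e, fun Y m h ξ => ?_⟩
    have := hθ Y m h (e.hom ≫ ξ)
    unfold Nat' at *
    rw [← cancel_epi (F.map e.hom)]
    rw [Functor.map_comp, Functor.map_comp, Category.assoc] at this
    rw [this]
    simp only [Iso.trans_hom, Iso.symm_hom, Functor.mapIso_inv, Functor.mapIso_hom, Category.assoc]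
    rw [← Functor.map_comp_assoc, e.hom_inv_id, CategoryTheory.Functor.map_id, Category.id_comp]
  · intro K b hK
    exact ⟨(F.map_isZero hK).iso (F'.map_isZero hK),
      fun Y m _ ξ => (F.map_isZero hK).eq_of_src _ _⟩
  · intro b X
    exact ⟨τ η (-b) X, fun Y m h ξ => nat'_of_le η (by omega) ξ⟩
  · intro b E K L u g p hT _ _ hM ⟨θL, hL⟩ _
    have hu := hL E (-b) (by omega) u
    let e := isoTriangleOfIso₁₂ _ _ (F.map_distinguished _ hT) (F'.map_distinguished _ hT)
      θL (τ η (-b) E) hu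
    refine ⟨Triangle.π₃.mapIso e, fun Y m h ξ => ?_⟩
    let θ : F.obj K ≅ F'.obj K := Triangle.π₃.mapIso e
    have hgθ : F.map g ≫ θ.hom = (τ η (-b) E).hom ≫ F'.map g := e.hom.comm₂
    have h0 : F.map g ≫ (F.map ξ ≫ (τ η m Y).hom - θ.hom ≫ F'.map ξ) = 0 := by
      have := nat'_of_le η (show m ≤ -b by omega) (g ≫ ξ)
      unfold Nat' at this
      rw [Preadditive.comp_sub, ← Category.assoc, ← Functor.map_comp, this, sub_eq_zero,
        reassoc_of% hgθ, Functor.map_comp]
    obtain ⟨χ, hχ⟩ := Triangle.yoneda_exact₃ _ (F.map_distinguished _ hT) _ h0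
    obtain rfl : χ = 0 := (Preadditive.IsIso.comp_left_eq_zero
      ((F.commShiftIso (1 : ℤ)).hom.app L) χ).1 (hom_to_sh_eq_zero η hvan _ (b - 1) hM (by omega) _)
    exact sub_eq_zero.1 (hχ.trans comp_zero)

end Groth.Agent.PerfGen7.Sibling
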