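import Groth.Agent.PerfGen7.Sibling.Degree0
import Groth.Agent.KFlatLib.SpanningClass

/-!
# Sibling functors agree on extensions; full faithfulness
-/

universe w v u v' u'

open CategoryTheory CategoryTheory.Limits CategoryTheory.Pretriangulated DerivedCategory

namespace Groth.Agent.PerfGen7.Sibling

section Five

variable {C : Type u} [Category.{v} C] [Preadditive C] [HasZeroObject C] [HasShift C ℤ]
  [∀ n : ℤ, (shiftFunctor C n).Additive] [Pretriangulated C]
  {D : Type u'} [Category.{v'} D] [Preadditive D] [HasZeroObject D] [HasShift D ℤ]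
  [∀ n : ℤ, (shiftFunctor D n).Additive] [Pretriangulated D]
  (G : C ⥤ D) [G.CommShift ℤ] [G.IsTriangulated]

/-- `G` is bijective on morphisms from `X` to `Y`. -/
def Bij (X Y : C) : Prop := Function.Bijective (fun f : X ⟶ Y => G.map f)

lemma Bij.of_iso {X X' Y Y' : C} (h : Bij G X Y) (e : X ≅ X') (e' : Y ≅ Y') : Bij G X' Y' := by
  have : (fun f : X' ⟶ Y' => G.map f) =
      (G.mapIso e).homCongr (G.mapIso e') ∘ (fun f : X ⟶ Y => G.map f) ∘ (e.homCongr e').symm := by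
    funext f
    simp
  unfold Bij
  rw [this]
  exact (Equiv.bijective _).comp (h.comp (Equiv.bijective _))

lemma bij_of_isZero_left {X Y : C} (h : IsZero X) : Bij G X Y :=
  ⟨fun _ _ _ => h.eq_of_src _ _, fun _ => ⟨0, (G.map_isZero h).eq_of_src _ _⟩⟩

lemma bij_of_isZero_right {X Y : C} (h : IsZero Y) : Bij G X Y :=
  ⟨fun _ _ _ => h.eq_of_tgt _ _, fun _ => ⟨0, (G.map_isZero h).eq_of_tgt _ _⟩⟩

lemma bij_right {W : C} (T : Triangle C) (hT : T ∈ distTriang C) (h₁ : Bij G W T.obj₁)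
    (h₂ : Bij G W T.obj₂) (h₁' : Bij G W (T.obj₁⟦(1 : ℤ)⟧)) (h₂' : Bij G W (T.obj₂⟦(1 : ℤ)⟧)) :
    Bij G W T.obj₃ := by
  have hT' := rot_of_distTriang T hT
  have hT'' := rot_of_distTriang _ hT'
  have inj : ∀ f : W ⟶ T.obj₃, G.map f = 0 → f = 0 := by
    intro f hf
    have h3 : f ≫ T.mor₃ = 0 := h₁'.1 (by simp [hf])
    obtain ⟨h, rfl⟩ := Triangle.coyoneda_exact₃ T hT f h3
    obtain ⟨k, hk⟩ := Triangle.coyoneda_exact₂ _ (G.map_distinguished T hT) (G.map h)
      (by change G.map h ≫ G.map T.mor₂ = 0; rw [← G.map_comp]; exact hf)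
    obtain ⟨k₀, rfl⟩ := h₁.2 k
    obtain rfl : h = k₀ ≫ T.mor₁ := h₂.1 (hk.trans (G.map_comp k₀ T.mor₁).symm)
    simp [comp_distTriang_mor_zero₁₂ T hT]
  refine ⟨fun f f' hff => sub_eq_zero.1 (inj _ (by rw [G.map_sub]; exact sub_eq_zero.2 hff)),
    fun y => ?_⟩
  obtain ⟨z, hz⟩ := h₁'.2 (y ≫ G.map T.mor₃)
  simp only at hz
  have hz0 : z ≫ T.mor₁⟦(1 : ℤ)⟧' = 0 := h₂'.1 (by
    have h0 : G.map T.mor₃ ≫ G.map (-(T.mor₁⟦(1 : ℤ)⟧')) = 0 := by
      rw [← G.map_comp]
      exact (congrArg G.map (comp_distTriang_mor_zero₂₃ _ hT')).trans (G.map_zero _ _)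
    rw [G.map_neg, Preadditive.comp_neg, neg_eq_zero] at h0
    simp [hz, h0])
  obtain ⟨x, hx⟩ := Triangle.coyoneda_exact₁ T hT z hz0
  obtain ⟨w, hw⟩ := Triangle.coyoneda_exact₂ _ (G.map_distinguished _ hT') (y - G.map x) (by
    change (y - G.map x) ≫ G.map T.mor₃ = 0
    rw [Preadditive.sub_comp, ← G.map_comp, ← hx, hz, sub_self])
  obtain ⟨w₀, rfl⟩ := h₂.2 w
  refine ⟨x + w₀ ≫ T.mor₂, ?_⟩
  change y - G.map x = G.map w₀ ≫ G.map T.mor₂ at hw
  simp [← hw]

lemma bij_left {W : C} (T : Triangle C) (hT : T ∈ distTriang C) (h₁ : Bij G T.obj₁ W)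
    (h₂ : Bij G T.obj₂ W) (h₁' : Bij G (T.obj₁⟦(1 : ℤ)⟧) W) (h₂' : Bij G (T.obj₂⟦(1 : ℤ)⟧) W) :
    Bij G T.obj₃ W := by
  have hT' := rot_of_distTriang T hT
  have hT'' := rot_of_distTriang _ hT'
  have inj : ∀ f : T.obj₃ ⟶ W, G.map f = 0 → f = 0 := by
    intro f hf
    have h2 : T.mor₂ ≫ f = 0 := h₂.1 (by simp [hf])
    obtain ⟨h, rfl⟩ := Triangle.yoneda_exact₃ T hT f h2
    obtain ⟨k, hk⟩ := Triangle.yoneda_exact₂ _ (G.map_distinguished _ hT'') (G.map h) (by
      change G.map T.mor₃ ≫ G.map h = 0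
      rw [← G.map_comp]; exact hf)
    obtain ⟨k₀, rfl⟩ := h₂'.2 k
    change G.map h = G.map (-(T.mor₁⟦(1 : ℤ)⟧')) ≫ G.map k₀ at hk
    obtain rfl : h = (-(T.mor₁⟦(1 : ℤ)⟧')) ≫ k₀ := h₁'.1 (hk.trans (G.map_comp _ _).symm)
    rw [← Category.assoc]
    exact (congrArg (· ≫ k₀) (comp_distTriang_mor_zero₂₃ _ hT')).trans zero_comp
  refine ⟨fun f f' hff => sub_eq_zero.1 (inj _ (by rw [G.map_sub]; exact sub_eq_zero.2 hff)),
    fun y => ?_⟩
  obtain ⟨z, hz⟩ := h₂.2 (G.map T.mor₂ ≫ y)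
  simp only at hz
  have hz0 : T.mor₁ ≫ z = 0 := h₁.1 (by
    simp [hz, ← Functor.map_comp_assoc, comp_distTriang_mor_zero₁₂ T hT])
  obtain ⟨x, hx⟩ := Triangle.yoneda_exact₂ T hT z hz0
  obtain ⟨w, hw⟩ := Triangle.yoneda_exact₂ _ (G.map_distinguished _ hT') (y - G.map x) (by
    change G.map T.mor₂ ≫ (y - G.map x) = 0
    rw [Preadditive.comp_sub, ← G.map_comp, ← hx, hz, sub_self])
  obtain ⟨w₀, rfl⟩ := h₁'.2 w
  refine ⟨x + T.mor₃ ≫ w₀, ?_⟩
  change y - G.map x = G.map T.mor₃ ≫ G.map w₀ at hw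
  simp [← hw]

end Five

variable {A : Type u} [Category.{v} A] [Abelian A] [HasDerivedCategory.{w} A]
  {D : Type u'} [Category.{v'} D] [Preadditive D] [HasZeroObject D] [HasShift D ℤ]
  [∀ n : ℤ, (shiftFunctor D n).Additive] [Pretriangulated D]
  {F F' : Bounded A ⥤ D} [F.CommShift ℤ] [F.IsTriangulated] [F'.CommShift ℤ] [F'.IsTriangulated]

lemma negVanish_of_ff [F.Full] [F.Faithful] : NegVanish F := by
  intro X Y q hq f
  obtain ⟨g, hg⟩ := F.map_surjective (f ≫ (F.commShiftIso q).inv.app _)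
  rw [hom_eq_zero (single_le X) (sh_ge q Y (n := -q) (by omega)) (by omega) g, F.map_zero,
    eq_comm, Preadditive.IsIso.comp_right_eq_zero] at hg
  exact hg

variable (η : DEquiv.singleB A ⋙ F ≅ DEquiv.singleB A ⋙ F') (hvan : NegVanish F)

/-- The connecting morphism of a short exact sequence, in `D^b`. -/
noncomputable def sesδ {S : ShortComplex A} (hS : S.ShortExact) :
    (DEquiv.singleB A).obj S.X₃ ⟶ ((DEquiv.singleB A).obj S.X₁)⟦(1 : ℤ)⟧ :=
  Bounded.ι.preimage ((show Bounded.ι.obj ((DEquiv.singleB A).obj S.X₃) ⟶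
      (Bounded.ι.obj ((DEquiv.singleB A).obj S.X₁))⟦(1 : ℤ)⟧ from hS.singleδ) ≫
    (Bounded.ι.commShiftIso (1 : ℤ)).inv.app ((DEquiv.singleB A).obj S.X₁))

lemma ses_distinguished {S : ShortComplex A} (hS : S.ShortExact) :
    Triangle.mk ((DEquiv.singleB A).map S.f) ((DEquiv.singleB A).map S.g) (sesδ hS) ∈
      distTriang (Bounded A) := by
  change Bounded.ι.mapTriangle.obj _ ∈ distTriang _
  refine isomorphic_distinguished _ hS.singleTriangle_distinguished _
    (Triangle.isoMk _ _ (Iso.refl _) (Iso.refl _) (Iso.refl _)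
      ((Category.comp_id _).trans (Category.id_comp _).symm)
      ((Category.comp_id _).trans (Category.id_comp _).symm) ?_)
  change (Bounded.ι.map (sesδ hS) ≫ (Bounded.ι.commShiftIso (1 : ℤ)).hom.app _) ≫
    (𝟙 (Bounded.ι.obj ((DEquiv.singleB A).obj S.X₁)))⟦(1 : ℤ)⟧' = 𝟙 _ ≫ hS.singleδ
  rw [CategoryTheory.Functor.map_id]
  refine (Category.comp_id _).trans (Eq.trans ?_ (Category.id_comp _).symm)
  rw [sesδ, Functor.map_preimage, Category.assoc, Iso.inv_hom_id_app]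
  exact Category.comp_id _

include η hvan in
lemma nat'_sesδ {S : ShortComplex A} (hS : S.ShortExact) :
    Nat' F F' (ev η S.X₃) (τ η 1 S.X₁) (sesδ hS) := by
  have hT := ses_distinguished hS
  obtain ⟨c, hc₁, hc₃⟩ : ∃ c : F.obj ((DEquiv.singleB A).obj S.X₁) ⟶
      F'.obj ((DEquiv.singleB A).obj S.X₁),
      F.map ((DEquiv.singleB A).map S.f) ≫ (ev η S.X₂).hom =
          c ≫ F'.map ((DEquiv.singleB A).map S.f) ∧
      (F.map (sesδ hS) ≫ (F.commShiftIso (1 : ℤ)).hom.app _) ≫ c⟦(1 : ℤ)⟧' =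
        (ev η S.X₃).hom ≫ F'.map (sesδ hS) ≫ (F'.commShiftIso (1 : ℤ)).hom.app _ :=
    complete_distinguished_triangle_morphism₁ _ _
      (F.map_distinguished _ hT) (F'.map_distinguished _ hT) (η.hom.app S.X₂) (η.hom.app S.X₃)
      (η.hom.naturality S.g)
  have h0 : (c - (ev η S.X₁).hom) ≫ F'.map ((DEquiv.singleB A).map S.f) = 0 := by
    rw [Preadditive.sub_comp, sub_eq_zero]
    exact hc₁.symm.trans (η.hom.naturality S.f)
  obtain ⟨χ, hχ⟩ := Triangle.coyoneda_exact₂ _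
    (inv_rot_of_distTriang _ (F'.map_distinguished _ hT)) (c - (ev η S.X₁).hom) h0
  obtain rfl : χ = 0 := by
    have h1 := hvan S.X₁ S.X₃ (-1) (by omega)
      (χ ≫ (shiftFunctor D (-1 : ℤ)).map (ev η S.X₃).inv)
    exact (Preadditive.IsIso.comp_right_eq_zero χ
      ((shiftFunctor D (-1 : ℤ)).mapIso (ev η S.X₃).symm).hom).1 h1
  have hc : c = (ev η S.X₁).hom := sub_eq_zero.1 (hχ.trans zero_comp)
  subst hc
  unfold Nat' τ shIso
  simp only [Iso.trans_hom, Iso.app_hom, Functor.mapIso_hom, Iso.symm_hom, Iso.app_inv]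
  rw [← cancel_mono ((F'.commShiftIso (1 : ℤ)).hom.app _)]
  simp only [Category.assoc, Iso.inv_hom_id_app] at hc₃ ⊢
  erw [Category.comp_id]
  exact hc₃

include η hvan in
lemma nat'_ext (n : ℕ) (X Y : A) (ξ : (DEquiv.singleB A).obj X ⟶ sh (n : ℤ) Y) :
    Nat' F F' (ev η X) (τ η n Y) ξ := by
  induction n generalizing X with
  | zero =>
    have : (DEquiv.singleB A).Full :=
      inferInstanceAs (ObjectProperty.lift _ (DerivedCategory.singleFunctor A 0) _).Full
    obtain ⟨a, ha⟩ := (DEquiv.singleB A).map_surjective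
      (ξ ≫ (shiftFunctorZero (Bounded A) ℤ).hom.app ((DEquiv.singleB A).obj Y))
    have e : ξ = (DEquiv.singleB A).map a ≫
        ((shiftFunctorZero (Bounded A) ℤ).app ((DEquiv.singleB A).obj Y)).inv := by simp [ha]
    rw [e]
    exact (nat'_single η a).comp (Nat'.inv (nat'_shiftZero (ev η Y)))
  | succ n ih =>
    obtain ⟨E, g, hg, hgξ⟩ := exists_cover (single_le X) (sh_le ((n + 1 : ℕ) : ℤ) Y
      (n := -((n + 1 : ℕ) : ℤ)) (by omega)) (by omega) ξ
    have : (DEquiv.singleB A).Full :=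
      inferInstanceAs (ObjectProperty.lift _ (DerivedCategory.singleFunctor A 0) _).Full
    obtain ⟨p, hp⟩ := (DEquiv.singleB A).map_surjective
      (((shiftFunctorZero' (Bounded A) (-0 : ℤ) (by omega)).app ((DEquiv.singleB A).obj E)).inv ≫ g)
    have hepi : Epi ((homologyFunctor A 0).map ((DerivedCategory.singleFunctor A 0).map p)) := by
      have : IsIso (((shiftFunctorZero' (Bounded A) (-0 : ℤ) (by omega)).app
          ((DEquiv.singleB A).obj E)).inv).hom := inferInstance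
      change Epi ((homologyFunctor A 0).map ((DEquiv.singleB A).map p).hom)
      rw [hp, ObjectProperty.FullSubcategory.comp_hom, Functor.map_comp]
      exact epi_comp' inferInstance hg
    have : Epi p := by
      have := (NatIso.naturality_1 (DerivedCategory.singleFunctorCompHomologyFunctorIso A 0) p)
      rw [← show _ = p from this]
      have : Epi ((DerivedCategory.singleFunctor A 0 ⋙ homologyFunctor A 0).map p) := hepi
      infer_instance
    let S : ShortComplex A := ShortComplex.mk (kernel.ι p) p (kernel.condition p)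
    have hS : S.ShortExact :=
      { exact := ShortComplex.exact_of_f_is_kernel _ (kernelIsKernel p)
        mono_f := inferInstanceAs (Mono (kernel.ι p))
        epi_g := inferInstanceAs (Epi p) }
    obtain ⟨χ, hχ⟩ := Triangle.yoneda_exact₃ _ (ses_distinguished hS) ξ (by
      change (DEquiv.singleB A).map p ≫ ξ = 0
      rw [hp, Category.assoc, hgξ, comp_zero])
    let e := (shiftFunctorAdd' (Bounded A) (n : ℤ) 1 ((n + 1 : ℕ) : ℤ) (by omega)).app
      ((DEquiv.singleB A).obj Y)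
    obtain ⟨χ', hχ'⟩ := (shiftFunctor (Bounded A) (1 : ℤ)).map_surjective
      ((show ((DEquiv.singleB A).obj S.X₁)⟦(1 : ℤ)⟧ ⟶ sh ((n + 1 : ℕ) : ℤ) Y from χ) ≫ e.hom)
    have hξ : ξ = sesδ hS ≫ χ'⟦(1 : ℤ)⟧' ≫ e.inv := by
      rw [hχ', Category.assoc, e.hom_inv_id]
      exact hχ.trans (congrArg _ (Category.comp_id _).symm)
    rw [hξ]
    exact (nat'_sesδ η hvan hS).comp (((ih _ χ').shift 1).comp
      (Nat'.inv (nat'_shiftAdd (ev η Y) (by omega))))

include η hvan in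
/-- `η` is natural with respect to all morphisms between shifts of objects in degree zero. -/
lemma nat'_sh {X Y : A} {m m' : ℤ} (f : sh m X ⟶ sh m' Y) : Nat' F F' (τ η m X) (τ η m' Y) f := by
  rcases le_or_gt m' m with h | h
  · exact nat'_of_le η h f
  · obtain ⟨n, hn⟩ : ∃ n : ℕ, m' = n + m := ⟨(m' - m).toNat, by omega⟩
    let e := (shiftFunctorAdd' (Bounded A) (n : ℤ) m m' hn.symm).app ((DEquiv.singleB A).obj Y)
    obtain ⟨g, hg⟩ := (shiftFunctor (Bounded A) m).map_surjective (f ≫ e.hom)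
    have hf : f = g⟦m⟧' ≫ e.inv := by simp [hg]
    rw [hf]
    exact ((nat'_ext η hvan n X Y g).shift m).comp (Nat'.inv (nat'_shiftAdd (ev η Y) hn.symm))

include η in
lemma bij_sh [F.Full] [F.Faithful] {X Y : A} (m m' : ℤ) : Bij F' (sh m X) (sh m' Y) := by
  have : (fun f : sh m X ⟶ sh m' Y => F'.map f) =
      (τ η m X).homCongr (τ η m' Y) ∘ (fun f : sh m X ⟶ sh m' Y => F.map f) := by
    funext f
    simp only [Function.comp_apply, Iso.homCongr_apply]
    rw [nat'_sh η negVanish_of_ff f, Iso.inv_hom_id_assoc]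
  unfold Bij
  rw [this]
  exact (Equiv.bijective _).comp ⟨fun _ _ h => F.map_injective h, F.map_surjective⟩

include η in
lemma full_faithful [F.Full] [F.Faithful] : F'.Full ∧ F'.Faithful := by
  have hs : ∀ (b : ℤ) (E : A), (sh (-b) E)⟦(1 : ℤ)⟧ ≅ sh (-b + 1) E := fun b E =>
    ((shiftFunctorAdd (Bounded A) (-b) 1).app ((DEquiv.singleB A).obj E)).symm
  have h1 : ∀ (K : Bounded A) (m : ℤ) (X : A), Bij F' (sh m X) K := by
    intro K
    obtain ⟨b, hb⟩ := exists_le K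
    refine induction_bound (P := fun K _ => ∀ (m : ℤ) (X : A), Bij F' (sh m X) K) ?_ ?_ ?_ ?_ K b hb
    · exact fun K L b e h m X => (h m X).of_iso F' (Iso.refl _) e
    · exact fun K b h m X => bij_of_isZero_right F' h
    · exact fun b Y m X => bij_sh η m (-b)
    · exact fun b E K L u g p hT _ _ _ hL hM m X => bij_right F' _ hT (hL m X) (bij_sh η m (-b))
        (hM m X) ((bij_sh η m (-b + 1)).of_iso F' (Iso.refl _) (hs b E).symm)
  have h2 : ∀ K W : Bounded A, Bij F' K W := by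
    intro K
    obtain ⟨b, hb⟩ := exists_le K
    refine induction_bound (P := fun K _ => ∀ W, Bij F' K W) ?_ ?_ ?_ ?_ K b hb
    · exact fun K L b e h W => (h W).of_iso F' e (Iso.refl _)
    · exact fun K b h W => bij_of_isZero_left F' h
    · exact fun b Y W => h1 W (-b) Y
    · exact fun b E K L u g p hT _ _ _ hL hM W => bij_left F' _ hT (hL W) (h1 W (-b) E)
        (hM W) ((h1 W (-b + 1) E).of_iso F' (hs b E).symm (Iso.refl _))
  exact ⟨⟨fun {X Y} => (h2 X Y).2⟩, ⟨fun {X Y} => fun _ _ h => (h2 X Y).1 h⟩⟩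

end Groth.Agent.PerfGen7.Sibling
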