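import Groth.Agent.PerfGen7.Sibling.Ext
import Groth.Agent.H9Misc.TFactor

/-!
# With enough negative objects, fully faithful siblings are isomorphic
-/

universe w v u v' u'

open CategoryTheory CategoryTheory.Limits CategoryTheory.Pretriangulated DerivedCategory

namespace Groth.Agent.PerfGen7.Sibling

variable {A : Type u} [Category.{v} A] [Abelian A] [HasDerivedCategory.{w} A]

/-- Every object is a quotient of an object to which it maps trivially. -/
def EnoughNeg (A : Type u) [Category.{v} A] [Abelian A] : Prop :=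
  ∀ X : A, ∃ (N : A) (p : N ⟶ X), Epi p ∧ ∀ f : X ⟶ N, f = 0

/-- Cohomology in degree `b` of an object placed in degree `b`. -/
noncomputable def homSh (b : ℤ) :
    DEquiv.singleB A ⋙ shiftFunctor (Bounded A) (-b) ⋙ Bounded.ι ⋙ homologyFunctor A b ≅ 𝟭 A :=
  Functor.isoWhiskerLeft (DEquiv.singleB A)
      (Functor.isoWhiskerRight (Bounded.ι.commShiftIso (-b)) (homologyFunctor A b)) ≪≫
    Functor.isoWhiskerLeft (DEquiv.singleB A ⋙ Bounded.ι)
      ((homologyFunctor A 0).shiftIso (-b) b 0 (by omega)) ≪≫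
    DerivedCategory.singleFunctorCompHomologyFunctorIso A 0

lemma hom_eq_zero_of_homology {K : Bounded A} {b : ℤ} (hb : LE K b) {N : A}
    (hN : ∀ φ : (homologyFunctor A b).obj K.obj ⟶ N, φ = 0) (ξ : K ⟶ sh (-b) N) : ξ = 0 := by
  apply Bounded.ι.map_injective
  rw [Functor.map_zero]
  have : (Bounded.ι.obj K).IsLE b := hb
  have : (Bounded.ι.obj (sh (-b) N)).IsGE b := sh_ge (-b) N (by omega)
  refine Groth.Agent.H9Misc.zero_of_homologyMap b _ ?_
  exact (Preadditive.IsIso.comp_right_eq_zero ((homologyFunctor A b).map (Bounded.ι.map ξ))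
    ((homSh b).app N).hom).1 (hN _)

lemma exists_negCover (hneg : EnoughNeg A) {K Z : Bounded A} {b c : ℤ} (hb : LE K b) (hc : LE Z c)
    (hcb : c < b) (f : K ⟶ Z) (W : A) :
    ∃ (N : A) (g : sh (-b) N ⟶ K),
      Epi ((DerivedCategory.homologyFunctor A b).map g.hom) ∧ g ≫ f = 0 ∧
      (∀ φ : (homologyFunctor A b).obj K.obj ⟶ N, φ = 0) ∧ (∀ φ : W ⟶ N, φ = 0) := by
  obtain ⟨E, g, hg, hgf⟩ := exists_cover hb hc hcb f
  obtain ⟨N, π, hπ, hπ'⟩ := hneg (E ⊞ ((homologyFunctor A b).obj K.obj ⊞ W))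
  refine ⟨N, ((DEquiv.singleB A).map (π ≫ biprod.fst))⟦-b⟧' ≫ g, ?_, ?_, fun φ => ?_, fun φ => ?_⟩
  · rw [ObjectProperty.FullSubcategory.comp_hom, Functor.map_comp]
    refine @epi_comp' _ _ _ _ _ _ _ ?_ hg
    have h := NatIso.naturality_2 (homSh (A := A) b) (π ≫ biprod.fst)
    change Epi ((DEquiv.singleB A ⋙ shiftFunctor (Bounded A) (-b) ⋙ Bounded.ι ⋙
      homologyFunctor A b).map (π ≫ biprod.fst))
    rw [← h]
    simp only [Functor.id_map]
    infer_instance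
  · rw [Category.assoc, hgf, comp_zero]
  · have := hπ' (biprod.snd ≫ biprod.fst ≫ φ)
    rwa [← cancel_epi (biprod.snd ≫ biprod.fst :
      E ⊞ ((homologyFunctor A b).obj K.obj ⊞ W) ⟶ _), comp_zero, Category.assoc]
  · have := hπ' (biprod.snd ≫ biprod.snd ≫ φ)
    rwa [← cancel_epi (biprod.snd ≫ biprod.snd :
      E ⊞ ((homologyFunctor A b).obj K.obj ⊞ W) ⟶ _), comp_zero, Category.assoc]

lemma le_biprod {M M' : Bounded A} {c : ℤ} (h : LE M c) (h' : LE M' c) : LE (M ⊞ M') c := by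
  have hT := Bounded.ι.map_distinguished _ (binaryBiproductTriangle_distinguished M M')
  have : (M.obj).IsLE c := h
  have : (M'.obj).IsLE c := h'
  unfold LE
  rw [DerivedCategory.isLE_iff]
  intro i hi
  exact (DerivedCategory.HomologySequence.exact₂ _ hT i).isZero_of_both_zeros
    ((M.obj.isZero_of_isLE c i hi).eq_of_src _ _) ((M'.obj.isZero_of_isLE c i hi).eq_of_tgt _ _)

/-- The amplitude has length at most `n`. -/
def Len (n : ℕ) (K : Bounded A) : Prop := ∃ a b : ℤ, GE K a ∧ LE K b ∧ b - a ≤ n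

lemma len_succ {n : ℕ} {K : Bounded A} (h : Len n K) : Len (n + 1) K := by
  obtain ⟨a, b, ha, hb, hab⟩ := h
  exact ⟨a, b, ha, hb, by omega⟩

lemma exists_len (K : Bounded A) : ∃ n, Len n K := by
  obtain ⟨a, ha⟩ := exists_ge K
  obtain ⟨b, hb⟩ := exists_le K
  exact ⟨(b - a).toNat, a, b, ha, hb, Int.self_le_toNat _⟩

lemma len_sh (n : ℕ) (m : ℤ) (X : A) : Len n (sh m X) :=
  ⟨-m, -m, sh_ge m X (by omega), sh_le m X (by omega), by omega⟩

lemma exists_sh_of_len_zero {K : Bounded A} (h : Len 0 K) :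
    ∃ (m : ℤ) (X : A), Nonempty (K ≅ sh m X) := by
  obtain ⟨a, b, ha, hb, hab⟩ := h
  obtain ⟨X, e⟩ := exists_iso_sh (hb.of_le (show b ≤ a by omega)) ha
  exact ⟨_, X, e⟩

variable {D : Type u'} [Category.{v'} D] [Preadditive D] [HasZeroObject D] [HasShift D ℤ]
  [∀ n : ℤ, (shiftFunctor D n).Additive] [Pretriangulated D]
  {F F' : Bounded A ⥤ D} [F.CommShift ℤ] [F.IsTriangulated] [F'.CommShift ℤ] [F'.IsTriangulated]

/-- Naturality on all morphisms between objects of length at most `n`. -/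
def NatUpTo (θ : ∀ K : Bounded A, F.obj K ≅ F'.obj K) (n : ℕ) : Prop :=
  ∀ (K L : Bounded A), Len n K → Len n L → ∀ f : K ⟶ L, Nat' F F' (θ K) (θ L) f

lemma base (η : DEquiv.singleB A ⋙ F ≅ DEquiv.singleB A ⋙ F')
    (h2 : ∀ K : Bounded A, Nonempty (F.obj K ≅ F'.obj K)) [F.Full] [F.Faithful] :
    ∃ θ : ∀ K : Bounded A, F.obj K ≅ F'.obj K, NatUpTo θ 0 := by
  classical
  let θ : ∀ K : Bounded A, F.obj K ≅ F'.obj K := fun K =>
    if h : ∃ (m : ℤ) (X : A), Nonempty (K ≅ sh m X) then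
      F.mapIso h.choose_spec.choose_spec.some ≪≫ τ η _ _ ≪≫
        F'.mapIso h.choose_spec.choose_spec.some.symm
    else (h2 K).some
  refine ⟨θ, fun K L hK hL f => ?_⟩
  have hK' := exists_sh_of_len_zero hK
  have hL' := exists_sh_of_len_zero hL
  simp only [θ, dif_pos hK', dif_pos hL']
  generalize hK'.choose_spec.choose_spec.some = eK
  generalize hL'.choose_spec.choose_spec.some = eL
  have := nat'_sh η negVanish_of_ff (eK.inv ≫ f ≫ eL.hom)
  unfold Nat' at this ⊢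
  simp only [Functor.map_comp, Category.assoc] at this
  simp only [Iso.trans_hom, Functor.mapIso_hom, Iso.symm_hom, Category.assoc]
  rw [← cancel_epi (F.map eK.inv), ← Functor.map_comp_assoc (f := eK.inv) (g := eK.hom),
    eK.inv_hom_id, CategoryTheory.Functor.map_id, Category.id_comp, reassoc_of% this]
  simp [← Functor.map_comp]

lemma hom_image_eq_zero [F.Full] {K Y : Bounded A} (θY : F.obj Y ≅ F'.obj Y)
    (h : ∀ ξ : K ⟶ Y, ξ = 0) (ψ : F.obj K ⟶ F'.obj Y) : ψ = 0 := by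
  obtain ⟨ξ, hξ⟩ := F.map_surjective (ψ ≫ θY.inv)
  rw [h ξ, F.map_zero, eq_comm, Preadditive.IsIso.comp_right_eq_zero] at hξ
  exact hξ

lemma unique_of_p [F.Full] {K L : Bounded A} {b : ℤ} {N : A} {u : L ⟶ sh (-b) N}
    {g : sh (-b) N ⟶ K} {p : K ⟶ L⟦(1 : ℤ)⟧} (hT : Triangle.mk u g p ∈ distTriang _)
    (hb : LE K b) (hN : ∀ φ : (homologyFunctor A b).obj K.obj ⟶ N, φ = 0)
    (θN : F.obj (sh (-b) N) ≅ F'.obj (sh (-b) N))
    {θ θ' : F.obj K ≅ F'.obj K} {θM : F.obj (L⟦(1 : ℤ)⟧) ≅ F'.obj (L⟦(1 : ℤ)⟧)}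
    (h : Nat' F F' θ θM p) (h' : Nat' F F' θ' θM p) : θ = θ' := by
  ext
  rw [← sub_eq_zero]
  unfold Nat' at h h'
  obtain ⟨ψ, hψ⟩ := Triangle.coyoneda_exact₂ _ (F'.map_distinguished _ (rot_of_distTriang _ hT))
    (θ.hom - θ'.hom) (by
      change (θ.hom - θ'.hom) ≫ F'.map p = 0
      rw [Preadditive.sub_comp, ← h, ← h', sub_self])
  obtain rfl : ψ = 0 := hom_image_eq_zero θN (hom_eq_zero_of_homology hb hN) ψ
  exact hψ.trans zero_comp

lemma exists_iso_p (θ : ∀ K : Bounded A, F.obj K ≅ F'.obj K) (n : ℕ) (hθ : NatUpTo θ n)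
    {K L : Bounded A} {b : ℤ} {N : A} {u : L ⟶ sh (-b) N}
    {g : sh (-b) N ⟶ K} {p : K ⟶ L⟦(1 : ℤ)⟧} (hT : Triangle.mk u g p ∈ distTriang _)
    (hM : Len n (L⟦(1 : ℤ)⟧)) :
    ∃ θK : F.obj K ≅ F'.obj K, Nat' F F' θK (θ _) p := by
  let T := (Triangle.mk u g p).rotate.rotate
  have hT' : T ∈ distTriang _ := rot_of_distTriang _ (rot_of_distTriang _ hT)
  have hN : Len n ((sh (-b) N)⟦(1 : ℤ)⟧) :=
    ⟨b - 1, b - 1, (sh_ge (-b) N (n := b) (by omega)).shift 1 (by omega),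
      (sh_le (-b) N (n := b) (by omega)).shift 1 (by omega), by omega⟩
  have hsq : F.map T.mor₂ ≫ (θ T.obj₃).hom = (θ T.obj₂).hom ≫ F'.map T.mor₂ := hθ _ _ hM hN _
  obtain ⟨a, ha₁, ha₃⟩ := complete_distinguished_triangle_morphism₁ (F.mapTriangle.obj T)
    (F'.mapTriangle.obj T) (F.map_distinguished _ hT') (F'.map_distinguished _ hT')
    (θ T.obj₂).hom (θ T.obj₃).hom hsq
  let φ : F.mapTriangle.obj T ⟶ F'.mapTriangle.obj T :=
    Triangle.homMk _ _ a (θ T.obj₂).hom (θ T.obj₃).hom ha₁ hsq ha₃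
  have : IsIso a := isIso₁_of_isIso₂₃ φ (F.map_distinguished _ hT') (F'.map_distinguished _ hT')
    (inferInstanceAs (IsIso (θ T.obj₂).hom)) (inferInstanceAs (IsIso (θ T.obj₃).hom))
  exact ⟨@asIso _ _ _ _ a this, ha₁⟩

/-- A cover of an object of length `n + 1` and the associated triangle. -/
structure Data (n : ℕ) (K : Bounded A) where
  a : ℤ
  b : ℤ
  ha : GE K a
  hb : LE K b
  hab : a < b
  hn : b - a ≤ n + 1
  N : A
  L : Bounded A
  u : L ⟶ sh (-b) N
  g : sh (-b) N ⟶ K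
  p : K ⟶ L⟦(1 : ℤ)⟧
  hT : Triangle.mk u g p ∈ distTriang _
  hN : ∀ φ : (homologyFunctor A b).obj K.obj ⟶ N, φ = 0
  hMa : GE (L⟦(1 : ℤ)⟧) a
  hMb : LE (L⟦(1 : ℤ)⟧) (b - 1)

lemma Data.len {n : ℕ} {K : Bounded A} (d : Data n K) : Len n (d.L⟦(1 : ℤ)⟧) :=
  ⟨d.a, d.b - 1, d.hMa, d.hMb, by have := d.hn; omega⟩

lemma exists_data (hneg : EnoughNeg A) {n : ℕ} {K : Bounded A} {a b : ℤ} (ha : GE K a)
    (hb : LE K b) (hab : a < b) (hn : b - a ≤ n + 1) {Z : Bounded A} {c : ℤ} (hc : LE Z c)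
    (hcb : c < b) (f : K ⟶ Z) (W : A) :
    ∃ d : Data n K, d.a = a ∧ d.b = b ∧ d.g ≫ f = 0 ∧ (∀ φ : W ⟶ d.N, φ = 0) := by
  obtain ⟨N, g, hg, hgf, hN, hW⟩ := exists_negCover hneg hb hc hcb f W
  obtain ⟨L, u, p, hT, -, -, h₃, h₄⟩ := exists_triangle ha hb hab g hg
  exact ⟨⟨a, b, ha, hb, hab, hn, N, L, u, g, p, hT, hN, h₃, h₄⟩, rfl, rfl, hgf, hW⟩

lemma eq_bounds {n : ℕ} {K : Bounded A} (hK : ¬ Len n K) {a b a' b' : ℤ} (ha : GE K a)
    (hb : LE K b) (hn : b - a ≤ n + 1) (ha' : GE K a') (hb' : LE K b') (hn' : b' - a' ≤ n + 1) :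
    b = b' ∧ a = a' := by
  by_contra h
  apply hK
  rcases le_total b b' with h1 | h1 <;> rcases le_total a a' with h2 | h2
  · exact ⟨a', b, ha', hb, by omega⟩
  · exact ⟨a, b, ha, hb, by omega⟩
  · exact ⟨a', b', ha', hb', by omega⟩
  · exact ⟨a, b', ha, hb', by omega⟩

lemma indep (hneg : EnoughNeg A) [F.Full] (θ : ∀ K : Bounded A, F.obj K ≅ F'.obj K) (n : ℕ)
    (hθ : NatUpTo θ n) {K : Bounded A} (hK : ¬ Len n K) (d d' : Data n K) {θK : F.obj K ≅ F'.obj K}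
    (h : Nat' F F' θK (θ _) d.p) : Nat' F F' θK (θ _) d'.p := by
  obtain ⟨hb, -⟩ := eq_bounds hK d.ha d.hb d.hn d'.ha d'.hb d'.hn
  have hle : LE (d.L⟦(1 : ℤ)⟧ ⊞ d'.L⟦(1 : ℤ)⟧) (d.b - 1) :=
    le_biprod d.hMb (d'.hMb.of_le (by omega))
  obtain ⟨e, -, -, hef, -⟩ := exists_data hneg d.ha d.hb d.hab d.hn hle (by omega)
    (biprod.lift d.p d'.p) ((homologyFunctor A d.b).obj K.obj)
  have h1 : e.g ≫ d.p = 0 := by simpa using congrArg (· ≫ biprod.fst) hef
  have h2 : e.g ≫ d'.p = 0 := by simpa using congrArg (· ≫ biprod.snd) hef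
  obtain ⟨χ, hχ⟩ := Triangle.yoneda_exact₃ _ e.hT d.p h1
  obtain ⟨χ', hχ'⟩ := Triangle.yoneda_exact₃ _ e.hT d'.p h2
  obtain ⟨θe, hθe⟩ := exists_iso_p θ n hθ e.hT e.len
  have he : Nat' F F' θe (θ _) d.p := by
    rw [hχ]; exact hθe.comp (hθ _ _ e.len d.len χ)
  obtain rfl : θK = θe := unique_of_p d.hT d.hb d.hN (θ _) h he
  rw [hχ']
  exact hθe.comp (hθ _ _ e.len d'.len χ')

lemma step (hneg : EnoughNeg A) [F.Full] [F.Faithful]
    (θ : ∀ K : Bounded A, F.obj K ≅ F'.obj K) (n : ℕ) (hθ : NatUpTo θ n) :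
    ∃ θ' : ∀ K : Bounded A, F.obj K ≅ F'.obj K,
      NatUpTo θ' (n + 1) ∧ ∀ K, Len n K → θ' K = θ K := by
  classical
  let θ' : ∀ K : Bounded A, F.obj K ≅ F'.obj K := fun K =>
    if h : ¬ Len n K ∧ Nonempty (Data n K) then (exists_iso_p θ n hθ h.2.some.hT h.2.some.len).choose
    else θ K
  have hold : ∀ K, Len n K → θ' K = θ K := fun K hK => dif_neg (fun h => h.1 hK)
  have hnew : ∀ (K : Bounded A) (d : Data n K), Nat' F F' (θ' K) (θ' _) d.p := by
    intro K d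
    rw [hold _ d.len]
    by_cases hK : Len n K
    · rw [hold _ hK]; exact hθ _ _ hK d.len _
    · have h : ¬ Len n K ∧ Nonempty (Data n K) := ⟨hK, ⟨d⟩⟩
      simp only [θ', dif_pos h]
      exact indep hneg θ n hθ hK _ d (exists_iso_p θ n hθ h.2.some.hT h.2.some.len).choose_spec
  refine ⟨θ', ?_, hold⟩
  suffices H : ∀ (s t : ℕ) (K K' : Bounded A) (a b a' b' : ℤ), GE K a → LE K b → GE K' a' →
      LE K' b' → b - a ≤ n + 1 → b' - a' ≤ n + 1 → (b - a).toNat + (b' - a').toNat ≤ s →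
      (if a < b then (b' - b + 1).toNat else (b - b').toNat) ≤ t →
      ∀ f : K ⟶ K', Nat' F F' (θ' K) (θ' K') f by
    rintro K K' ⟨a, b, ha, hb, hab⟩ ⟨a', b', ha', hb', hab'⟩ f
    exact H _ _ K K' a b a' b' ha hb ha' hb' (by omega) (by omega) le_rfl le_rfl f
  intro s
  induction s using Nat.strong_induction_on with
  | _ s ihs =>
  intro t
  induction t using Nat.strong_induction_on with
  | _ t iht =>
  intro K K' a b a' b' ha hb ha' hb' hn hn' hs ht f
  by_cases hsmall : Len n K ∧ Len n K'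
  · rw [hold _ hsmall.1, hold _ hsmall.2]
    exact hθ _ _ hsmall.1 hsmall.2 f
  by_cases hbb : b' < b
  · -- split the source
    by_cases hab : a < b
    · obtain ⟨d, rfl, rfl, hdf, -⟩ := exists_data hneg (n := n) ha hb hab hn hb' hbb f
        ((homologyFunctor A b).obj K.obj)
      obtain ⟨χ, hχ⟩ := Triangle.yoneda_exact₃ _ d.hT f hdf
      rw [hχ]
      exact (hnew K d).comp (ihs ((d.b - 1 - d.a).toNat + (b' - a').toNat) (by omega) _ _ _
        d.a (d.b - 1) a' b' d.hMa d.hMb ha' hb' (by omega) hn' le_rfl le_rfl χ)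
    · obtain ⟨d, hda, hdb, hdf, -⟩ := exists_data hneg (n := n) (ha.of_le (show b - 1 ≤ a by omega))
        hb (by omega) (by omega) hb' hbb f ((homologyFunctor A b).obj K.obj)
      obtain ⟨χ, hχ⟩ := Triangle.yoneda_exact₃ _ d.hT f hdf
      rw [hχ]
      rw [if_neg hab] at ht
      exact (hnew K d).comp (iht (b - 1 - b').toNat (by omega) _ _
        (b - 1) (b - 1) a' b' (hda ▸ d.hMa) (hdb ▸ d.hMb) ha' hb' (by omega) hn' (by omega)
        (by rw [if_neg (lt_irrefl _)]) χ)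
  · -- split the target
    obtain ⟨d, hda, hdb, -, hW⟩ := exists_data hneg (n := n) (ha'.of_le (min_le_left a' (b' - 1)))
      hb' (lt_of_le_of_lt (min_le_right _ _) (by omega)) (by omega)
      (hb'.shift 1 (n' := b' - 1) (by omega)) (by omega) (0 : K' ⟶ K'⟦(1 : ℤ)⟧)
      ((homologyFunctor A b).obj K.obj)
    have h1 : Nat' F F' (θ' K) (θ' _) (f ≫ d.p) := by
      by_cases hab' : a' < b'
      · exact ihs ((b - a).toNat + (b' - 1 - a').toNat) (by omega) _ _ _ a b a' (b' - 1) ha hb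
          (d.hMa.of_le (by omega)) (d.hMb.of_le (by omega)) hn (by omega) le_rfl le_rfl _
      · have hab : a < b := by
          by_contra hab
          exact hsmall ⟨⟨a, b, ha, hb, by omega⟩, ⟨a', b', ha', hb', by omega⟩⟩
        rw [if_pos hab] at ht
        exact iht (b' - 1 - b + 1).toNat (by omega) _ _ a b (b' - 1) (b' - 1) ha hb
          (d.hMa.of_le (by omega)) (d.hMb.of_le (by omega)) hn (by omega) (by omega)
          (by rw [if_pos hab]) _
    have h2 := hnew K' d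
    have hψ0 : ∀ ξ : K ⟶ sh (-d.b) d.N, ξ = 0 := by
      rcases lt_or_eq_of_le (show b ≤ d.b by omega) with h | h
      · exact hom_eq_zero hb (sh_ge _ _ (by omega)) h
      · exact hom_eq_zero_of_homology (hb.of_le h.le) (h ▸ hW)
    unfold Nat' at h1 h2 ⊢
    rw [← sub_eq_zero]
    obtain ⟨ψ, hψ⟩ := Triangle.coyoneda_exact₂ _
      (F'.map_distinguished _ (rot_of_distTriang _ d.hT))
      (F.map f ≫ (θ' K').hom - (θ' K).hom ≫ F'.map f) (by
        change (F.map f ≫ (θ' K').hom - (θ' K).hom ≫ F'.map f) ≫ F'.map d.p = 0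
        rw [Preadditive.sub_comp, Category.assoc, Category.assoc, ← h2, ← Category.assoc,
          ← F.map_comp, h1, F'.map_comp, sub_self])
    obtain rfl : ψ = 0 := hom_image_eq_zero (θ _) hψ0 ψ
    exact hψ.trans zero_comp

/-- Fully faithful siblings are isomorphic when there are enough negative objects. -/
theorem nonempty_iso (hneg : EnoughNeg A) (η : DEquiv.singleB A ⋙ F ≅ DEquiv.singleB A ⋙ F')
    (h2 : ∀ K : Bounded A, Nonempty (F.obj K ≅ F'.obj K)) [F.Full] [F.Faithful] :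
    Nonempty (F ≅ F') := by
  classical
  let Θ : ∀ n : ℕ, {θ : ∀ K : Bounded A, F.obj K ≅ F'.obj K // NatUpTo θ n} :=
    Nat.rec ⟨(base η h2).choose, (base η h2).choose_spec⟩ fun n θ =>
      ⟨(step hneg θ.1 n θ.2).choose, (step hneg θ.1 n θ.2).choose_spec.1⟩
  have hΘ : ∀ n K, Len n K → (Θ (n + 1)).1 K = (Θ n).1 K := fun n =>
    (step hneg (Θ n).1 n (Θ n).2).choose_spec.2
  have hstab : ∀ n m K, Len n K → n ≤ m → Len m K ∧ (Θ m).1 K = (Θ n).1 K := by
    intro n m K hK hnm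
    induction m, hnm using Nat.le_induction with
    | base => exact ⟨hK, rfl⟩
    | succ m _ ih => exact ⟨len_succ ih.1, (hΘ m K ih.1).trans ih.2⟩
  refine ⟨NatIso.ofComponents (fun K => (Θ (exists_len K).choose).1 K) fun {K L} f => ?_⟩
  obtain ⟨hK, hK'⟩ := hstab _ (max (exists_len K).choose (exists_len L).choose) K
    (exists_len K).choose_spec (le_max_left _ _)
  obtain ⟨hL, hL'⟩ := hstab _ (max (exists_len K).choose (exists_len L).choose) L
    (exists_len L).choose_spec (le_max_right _ _)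
  rw [← hK', ← hL']
  exact (Θ _).2 K L hK hL f

end Groth.Agent.PerfGen7.Sibling
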